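import Cfsg.Agent.Lib.U6S.Def

/-! # Centralisers in `Aut Fi₂₂` (generated by `tools/u6/data3.py`) -/

set_option autoImplicit false
set_option maxRecDepth 1000000
set_option maxHeartbeats 0

namespace Cfsg.Lib.U6S

open Cfsg.Lib.Calc Cfsg.Lib.Fi Cfsg.Lib.Fi.M22

noncomputable def k4_lv : List Lev := [
  ⟨(nat_lit 1901), [(.l (nat_lit 0)), (.l (nat_lit 43)), (.l (nat_lit 47)), (.l (nat_lit 59)), (.l (nat_lit 154)), (.l (nat_lit 155)), (.l (nat_lit 172)), (.l (nat_lit 427)), (.l (nat_lit 434)), (.l (nat_lit 1062))], (nat_lit 1), 1024, (.diff (.diff (.diff (.diff (.diff (.diff (.diff (.diff (.diff (.diff .all (.adj wone (nat_lit 0))) (.adj wone (nat_lit 1))) (.adj wone (nat_lit 2))) (.adj wone (nat_lit 3))) (.adj wone (nat_lit 4))) (.adj wone (nat_lit 6))) (.adj wone (nat_lit 8))) (.adj wone (nat_lit 7))) (.adj wone (nat_lit 5))) (.fix (.mul (.l (nat_lit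 5)) (.mul (.l (nat_lit 1)) (.mul (.l (nat_lit 8)) (.l (nat_lit 6))))))), (nat_lit 0), []⟩,
  ⟨(nat_lit 1231), [], (nat_lit 0), 1, (.pnt (.mul (.l (nat_lit 4)) (.mul (.l (nat_lit 3)) (.mul (.l (nat_lit 0)) (.mul (.l (nat_lit 8)) (.mul (.l (nat_lit 7)) (.l (nat_lit 2))))))) (nat_lit 0)), (nat_lit 0), []⟩,
  ⟨(nat_lit 2995), [], (nat_lit 0), 1, (.pnt (.mul (.l (nat_lit 10)) (.mul (.l (nat_lit 0)) (.mul (.l (nat_lit 5)) (.l (nat_lit 2))))) (nat_lit 1)), (nat_lit 0), []⟩,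
  ⟨(nat_lit 40), [], (nat_lit 0), 1, (.pnt (.mul (.l (nat_lit 1)) (.mul (.l (nat_lit 7)) (.mul (.l (nat_lit 6)) (.l (nat_lit 3))))) (nat_lit 1)), (nat_lit 0), []⟩,
  ⟨(nat_lit 3051), [], (nat_lit 0), 1, (.pnt (.mul (.l (nat_lit 7)) (.mul (.l (nat_lit 6)) (.l (nat_lit 4)))) (nat_lit 1)), (nat_lit 0), []⟩,
  ⟨(nat_lit 1432), [], (nat_lit 0), 1, (.pnt (.mul (.l (nat_lit 4)) (.mul (.l (nat_lit 2)) (.mul (.l (nat_lit 13)) (.l (nat_lit 4))))) (nat_lit 0)), (nat_lit 0), []⟩]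
theorem k4_ok : F.ext.certOK k4_lv (List.map tw [[0], [43], [47], [59], [154], [155], [172], [427], [434], [1062]]) = true := by decide +kernel
noncomputable def c0_lv : List Lev := [
  ⟨(nat_lit 1231), [(.l (nat_lit 0))], (nat_lit 1), 2, (.and (.diff (.and (.and (.adj wone (nat_lit 6)) (.adj (.mul (.l (nat_lit 4)) (.mul (.l (nat_lit 3)) (.l (nat_lit 2)))) (nat_lit 1))) (.adj (.mul (.l (nat_lit 7)) (.mul (.l (nat_lit 8)) (.l (nat_lit 5)))) (nat_lit 4))) (.adj wone (nat_lit 0))) (.adj (.mul (.l (nat_lit 8)) (.mul (.l (nat_lit 7)) (.l (nat_lit 6)))) (nat_lit 2))), (nat_lit 0), []⟩,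
  ⟨(nat_lit 1901), [], (nat_lit 0), 1, (.pnt (.mul (.l (nat_lit 5)) (.mul (.l (nat_lit 9)) (.mul (.l (nat_lit 7)) (.mul (.l (nat_lit 3)) (.l (nat_lit 4)))))) (nat_lit 0)), (nat_lit 0), []⟩,
  ⟨(nat_lit 2995), [], (nat_lit 0), 1, (.pnt (.mul (.l (nat_lit 0)) (.mul (.l (nat_lit 9)) (.mul (.l (nat_lit 7)) (.mul (.l (nat_lit 3)) (.l (nat_lit 2)))))) (nat_lit 0)), (nat_lit 0), []⟩,
  ⟨(nat_lit 3051), [], (nat_lit 0), 1, (.pnt (.mul (.l (nat_lit 2)) (.mul (.l (nat_lit 5)) (.l (nat_lit 1)))) (nat_lit 0)), (nat_lit 0), []⟩,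
  ⟨(nat_lit 1432), [], (nat_lit 0), 1, (.pnt (.mul (.l (nat_lit 5)) (.mul (.l (nat_lit 2)) (.mul (.l (nat_lit 7)) (.l (nat_lit 4))))) (nat_lit 1)), (nat_lit 0), []⟩]
theorem c0_ok : F.ext.certOK c0_lv (List.map tw [[0], [6], [16], [40], [88], [154], [43], [92], [472]]) = true := by decide +kernel
noncomputable def k3a_lv : List Lev := [
  ⟨(nat_lit 1231), [(.l (nat_lit 0)), (.l (nat_lit 6))], (nat_lit 1), 4, (.diff (.diff (.and (.and (.and (.adj wone (nat_lit 5)) (.adj (.mul (.l (nat_lit 2)) (.l (nat_lit 5))) (nat_lit 1))) (.adj (.l (nat_lit 4)) (nat_lit 2))) (.adj (.mul (.l (nat_lit 6)) (.mul (.l (nat_lit 5)) (.l (nat_lit 3)))) (nat_lit 1))) (.adj wone (nat_lit 0))) (.adj (.l (nat_lit 6)) (nat_lit 1))), (nat_lit 0), []⟩,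
  ⟨(nat_lit 1901), [], (nat_lit 0), 1, (.pnt (.mul (.l (nat_lit 6)) (.mul (.l (nat_lit 2)) (.mul (.l (nat_lit 7)) (.mul (.l (nat_lit 3)) (.l (nat_lit 1)))))) (nat_lit 0)), (nat_lit 0), []⟩,
  ⟨(nat_lit 2995), [], (nat_lit 0), 1, (.pnt (.mul (.l (nat_lit 5)) (.mul (.l (nat_lit 4)) (.mul (.l (nat_lit 7)) (.mul (.l (nat_lit 1)) (.l (nat_lit 2)))))) (nat_lit 0)), (nat_lit 0), []⟩,
  ⟨(nat_lit 40), [], (nat_lit 0), 1, (.pnt (.mul (.l (nat_lit 9)) (.mul (.l (nat_lit 4)) (.l (nat_lit 8)))) (nat_lit 5)), (nat_lit 0), []⟩,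
  ⟨(nat_lit 3051), [], (nat_lit 0), 1, (.pnt (.mul (.l (nat_lit 8)) (.mul (.l (nat_lit 10)) (.mul (.l (nat_lit 4)) (.l (nat_lit 1))))) (nat_lit 0)), (nat_lit 0), []⟩,
  ⟨(nat_lit 1432), [], (nat_lit 0), 1, (.pnt (.mul (.l (nat_lit 1)) (.mul (.l (nat_lit 9)) (.l (nat_lit 10)))) (nat_lit 0)), (nat_lit 0), []⟩]
theorem k3a_ok : F.ext.certOK k3a_lv (List.map tw [[0], [113], [2140], [1041], [3283], [935], [2141]]) = true := by decide +kernel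
noncomputable def k3b_lv : List Lev := [
  ⟨(nat_lit 1097), [(.l (nat_lit 0)), (tw [(nat_lit 6), (nat_lit 40)])], (nat_lit 1), 4, (.and (.diff (.fix (.mul (.l (nat_lit 10)) (.mul (.l (nat_lit 4)) (.mul (.l (nat_lit 5)) (.l (nat_lit 6)))))) (.adj wone (nat_lit 0))) (.fix (.l (nat_lit 11)))), (nat_lit 0), []⟩,
  ⟨(nat_lit 1231), [], (nat_lit 0), 1, (.pnt (.mul (.l (nat_lit 5)) (.mul (.l (nat_lit 0)) (.mul (.l (nat_lit 9)) (.mul (.l (nat_lit 8)) (.l (nat_lit 2)))))) (nat_lit 0)), (nat_lit 0), []⟩,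
  ⟨(nat_lit 1901), [], (nat_lit 0), 1, (.pnt (.mul (.l (nat_lit 7)) (.mul (.l (nat_lit 12)) (.mul (.l (nat_lit 1)) (.l (nat_lit 7))))) (nat_lit 0)), (nat_lit 0), []⟩,
  ⟨(nat_lit 2995), [], (nat_lit 0), 1, (.pnt (.mul (.l (nat_lit 13)) (.mul (.l (nat_lit 12)) (.l (nat_lit 7)))) (nat_lit 2)), (nat_lit 0), []⟩,
  ⟨(nat_lit 40), [], (nat_lit 0), 1, (.pnt (.mul (.l (nat_lit 2)) (.mul (.l (nat_lit 3)) (.mul (.l (nat_lit 10)) (.l (nat_lit 9))))) (nat_lit 0)), (nat_lit 0), []⟩,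
  ⟨(nat_lit 3051), [], (nat_lit 0), 1, (.pnt (.mul (.l (nat_lit 8)) (.mul (.l (nat_lit 7)) (.l (nat_lit 5)))) (nat_lit 1)), (nat_lit 0), []⟩,
  ⟨(nat_lit 1432), [], (nat_lit 0), 1, (.pnt (.mul (.l (nat_lit 16)) (.mul (.l (nat_lit 4)) (.mul (.l (nat_lit 11)) (.l (nat_lit 2))))) (nat_lit 0)), (nat_lit 0), []⟩]
theorem k3b_ok : F.ext.certOK k3b_lv (List.map tw [[0], [43], [47], [59], [154], [155], [172], [427], [434], [1062], [28, 544, 64, 544, 1366, 1402, 88, 2245], [1437, 2628, 1412, 1435, 1437, 2628, 1412, 1435]]) = true := by decide +kernel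
noncomputable def k3c_lv : List Lev := [
  ⟨(nat_lit 1313), [(.l (nat_lit 0)), (tw [(nat_lit 6), (nat_lit 40), (nat_lit 43)])], (nat_lit 1), 4, (.diff (.fix (.mul (.l (nat_lit 3)) (.mul (.l (nat_lit 0)) (.l (nat_lit 11))))) (.adj wone (nat_lit 0))), (nat_lit 0), []⟩,
  ⟨(nat_lit 1231), [], (nat_lit 0), 1, (.pnt (.mul (.l (nat_lit 11)) (.mul (.l (nat_lit 0)) (.mul (.l (nat_lit 11)) (.mul (.l (nat_lit 0)) (.mul (.l (nat_lit 11)) (.mul (.l (nat_lit 12)) (.l (nat_lit 6)))))))) (nat_lit 0)), (nat_lit 0), []⟩,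
  ⟨(nat_lit 1901), [], (nat_lit 0), 1, (.pnt (.mul (.l (nat_lit 0)) (.mul (.l (nat_lit 12)) (.mul (.l (nat_lit 0)) (.mul (.l (nat_lit 6)) (.mul (.l (nat_lit 13)) (.l (nat_lit 2))))))) (nat_lit 0)), (nat_lit 0), []⟩,
  ⟨(nat_lit 2995), [], (nat_lit 0), 1, (.pnt (.mul (.l (nat_lit 6)) (.mul (.l (nat_lit 13)) (.l (nat_lit 9)))) (nat_lit 0)), (nat_lit 0), []⟩,
  ⟨(nat_lit 40), [], (nat_lit 0), 1, (.pnt (.l (nat_lit 15)) (nat_lit 10)), (nat_lit 0), []⟩,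
  ⟨(nat_lit 3051), [], (nat_lit 0), 1, (.pnt (.mul (.l (nat_lit 8)) (.mul (.l (nat_lit 7)) (.l (nat_lit 5)))) (nat_lit 1)), (nat_lit 0), []⟩,
  ⟨(nat_lit 1432), [], (nat_lit 0), 1, (.pnt (.mul (.l (nat_lit 2)) (.mul (.l (nat_lit 5)) (.l (nat_lit 16)))) (nat_lit 2)), (nat_lit 0), []⟩]
theorem k3c_ok : F.ext.certOK k3c_lv (List.map tw [[0], [43], [47], [59], [154], [155], [172], [427], [434], [1062], [1366, 1402, 88, 2245, 1412, 1435, 1366, 1402], [697, 709, 1437, 2628, 554, 1543, 1165, 70, 774, 1395, 697, 709]]) = true := by decide +kernel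

end Cfsg.Lib.U6S
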